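import Groth.Prelude.Def_CoactBr
import Groth.Agent.Chow.Coords
import Mathlib.RingTheory.HopfAlgebra.Convolution
import Mathlib.RingTheory.LocalRing.Module
import Mathlib.RingTheory.Support

/-!
# Inertia of coactions: points dictionary and Nakayama criterion
-/

set_option autoImplicit false

universe u

open CategoryTheory MonoidalCategory CartesianMonoidalCategory MonObj AlgebraicGeometry WithConv
open scoped TensorProduct

noncomputable section

namespace Groth.Agent.InertCoact

variable {R A B : Type u} [CommRing R] [CommRing A] [HopfAlgebra R A]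
  [CommRing B] [Algebra R B] [HopfRep.Comod R A B] [GLin.IsCoactAlg R A B]

section Points

variable {L M : Type u} [CommRing L] [Algebra R L] [CommRing M] [Algebra R M]

/-- a point of `B` moved by a point of `A` -/
def act (x : B →ₐ[R] L) (g : WithConv (A →ₐ[R] L)) : B →ₐ[R] L :=
  (Algebra.TensorProduct.lift x g.ofConv fun _ _ => .all _ _).comp (GLin.coactAlgHom R A B)

theorem pt_act (x : B →ₐ[R] L) (g : WithConv (A →ₐ[R] L)) :
    lift (CoactBr.pt x) (CoactBr.pt g.ofConv) ≫ CoactBr.ract R A B = CoactBr.pt (act x g) :=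
  CoactBr.lift_pt_ract x g.ofConv

theorem pt_mul (g h : WithConv (A →ₐ[R] L)) :
    CoactBr.pt (g * h).ofConv = CoactBr.pt g.ofConv * CoactBr.pt h.ofConv :=
  map_mul Spec.mapMulEquiv g h

theorem pt_one : CoactBr.pt (1 : WithConv (A →ₐ[R] L)).ofConv = 1 :=
  map_one Spec.mapMulEquiv

/-- points form a group -/
instance (priority := low) convGrp : Group (WithConv (A →ₐ[R] L)) :=
  { (inferInstance : Monoid (WithConv (A →ₐ[R] L))) with
    inv := fun g => toConv (g.ofConv.comp (HopfAlgebra.antipodeAlgHom R A))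
    inv_mul_cancel := fun g => WithConv.ofConv_injective (CoactBr.pt_injective (by
      rw [pt_mul, pt_one]
      show CoactBr.pt (g.ofConv.comp (HopfAlgebra.antipodeAlgHom R A)) * CoactBr.pt g.ofConv = 1
      rw [← CoactBr.pt_inv, inv_mul_cancel])) }

theorem pt_inv (g : WithConv (A →ₐ[R] L)) :
    CoactBr.pt (g⁻¹).ofConv = (CoactBr.pt g.ofConv)⁻¹ :=
  (CoactBr.pt_inv g.ofConv).symm

theorem act_act (x : B →ₐ[R] L) (g h : WithConv (A →ₐ[R] L)) :
    act (act x g) h = act x (g * h) :=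
  CoactBr.pt_injective (by
    rw [← pt_act, ← pt_act, CoactBr.lift_ract_ract, ← pt_mul, pt_act])

theorem act_one (x : B →ₐ[R] L) : act x (1 : WithConv (A →ₐ[R] L)) = x :=
  CoactBr.pt_injective (by rw [← pt_act, pt_one, CoactBr.lift_one_ract])

theorem comp_act (j : L →ₐ[R] M) (x : B →ₐ[R] L) (g : WithConv (A →ₐ[R] L)) :
    j.comp (act x g) = act (j.comp x) (toConv (j.comp g.ofConv)) := by
  rw [act, act, ← AlgHom.comp_assoc]
  congr 1
  exact Algebra.TensorProduct.ext' fun b a => by simp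

/-- every point fixing a point induced by `x` is the unit -/
def InTriv (A : Type u) [CommRing A] [HopfAlgebra R A] [HopfRep.Comod R A B] [GLin.IsCoactAlg R A B]
    (x : B →ₐ[R] L) : Prop :=
  ∀ (M : Type u) [CommRing M] [Algebra R M] (j : L →ₐ[R] M) (g : WithConv (A →ₐ[R] M)),
    act (j.comp x) g = j.comp x → g = 1

theorem InTriv.comp {x : B →ₐ[R] L} (h : InTriv A x) (i : L →ₐ[R] M) : InTriv A (i.comp x) := by
  intro N _ _ j g hg
  exact h N (j.comp i) g (by rwa [AlgHom.comp_assoc])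

/-- inertia at a translate -/
theorem InTriv.act {x : B →ₐ[R] L} (h : InTriv A x) (e : WithConv (A →ₐ[R] L)) :
    InTriv A (act x e) := by
  intro N _ _ j g hg
  rw [comp_act] at hg
  generalize toConv (j.comp e.ofConv) = e' at hg
  rw [act_act] at hg
  have h1 := congrArg (fun y => InertCoact.act y e'⁻¹) hg
  simp only [act_act, mul_inv_cancel, act_one] at h1
  have h2 := h N j _ h1
  calc g = e'⁻¹ * (e' * g * e'⁻¹) * e' := by group
    _ = 1 := by rw [h2]; group

end Points

section Dictionary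

/-- the structure map on global functions -/
@[implicit_reducible]
def algOf (T : Over (Spec (CommRingCat.of R))) : Algebra R Γ(T.left, ⊤) :=
  ((T.hom.appTop).hom.comp (Scheme.ΓSpecIso (CommRingCat.of R)).inv.hom).toAlgebra

attribute [local instance] algOf

/-- the map to the affinization -/
def toGamma (T : Over (Spec (CommRingCat.of R))) : T ⟶ CoactBr.sp R Γ(T.left, ⊤) :=
  Over.homMk T.left.toSpecΓ (by
    show T.left.toSpecΓ ≫ Spec.map (CommRingCat.ofHom (algebraMap R Γ(T.left, ⊤))) = T.hom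
    rw [RingHom.algebraMap_toAlgebra, CommRingCat.ofHom_comp, Spec.map_comp, CommRingCat.ofHom_hom,
      CommRingCat.ofHom_hom, ← Category.assoc, ← Scheme.toSpecΓ_naturality]
    simp)

theorem exists_fac {L : Type u} [CommRing L] [Algebra R L] {T : Over (Spec (CommRingCat.of R))}
    (x : T ⟶ CoactBr.sp R L) : ∃ φ : L →ₐ[R] Γ(T.left, ⊤), x = toGamma T ≫ CoactBr.pt φ := by
  let φ : L →+* Γ(T.left, ⊤) := Chow.specHom x.left
  have hw : T.left.toSpecΓ ≫ Spec.map (CommRingCat.ofHom (φ.comp (algebraMap R L))) =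
      T.left.toSpecΓ ≫ Spec.map (CommRingCat.ofHom (algebraMap R Γ(T.left, ⊤))) := by
    refine Eq.trans ?_ ((Over.w (toGamma T)).trans rfl).symm
    rw [CommRingCat.ofHom_comp, Spec.map_comp, ← Category.assoc]
    erw [Chow.toSpecΓ_specHom x.left]
    exact Over.w x
  have hc := Chow.toSpecΓ_SpecMap_injective (C := CommRingCat.of R) hw
  refine ⟨{ φ with commutes' := fun r => RingHom.congr_fun hc r }, Over.OverMorphism.ext ?_⟩
  exact (Chow.toSpecΓ_specHom x.left).symm

theorem fac_injective {L : Type u} [CommRing L] [Algebra R L] {T : Over (Spec (CommRingCat.of R))}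
    {φ ψ : L →ₐ[R] Γ(T.left, ⊤)} (h : toGamma T ≫ CoactBr.pt φ = toGamma T ≫ CoactBr.pt ψ) : φ = ψ :=
  AlgHom.coe_ringHom_injective (Chow.toSpecΓ_SpecMap_injective (C := CommRingCat.of L)
    (congrArg CommaMorphism.left h))

variable {L : Type u} [CommRing L] [Algebra R L]

theorem InTriv.eq_one {x : B →ₐ[R] L} (hx : InTriv A x) {T : Over (Spec (CommRingCat.of R))}
    (h : T ⟶ CoactBr.sp R L) (g : T ⟶ CoactBr.sp R A)
    (hg : lift g (h ≫ CoactBr.pt x) ≫ (CoactBr.action R A B).act = h ≫ CoactBr.pt x) : g = 1 := by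
  obtain ⟨j, rfl⟩ := exists_fac h
  obtain ⟨γ, rfl⟩ := exists_fac g
  obtain ⟨γ, rfl⟩ : ∃ c : WithConv (A →ₐ[R] Γ(T.left, ⊤)), c.ofConv = γ := ⟨toConv γ, rfl⟩
  rw [CoactBr.lift_action_act, Category.assoc, ← CoactBr.pt_comp, ← GrpObj.comp_inv, ← pt_inv,
    ← comp_lift, Category.assoc, pt_act] at hg
  have h1 := hx _ j γ⁻¹ (fac_injective hg)
  rw [inv_eq_one] at h1
  rw [h1, pt_one, MonObj.comp_one]

theorem inTriv_of_cat {x : B →ₐ[R] L}
    (H : ∀ (T : Over (Spec (CommRingCat.of R))) (h : T ⟶ CoactBr.sp R L) (g : T ⟶ CoactBr.sp R A),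
      lift g (h ≫ CoactBr.pt x) ≫ (CoactBr.action R A B).act = h ≫ CoactBr.pt x → g = 1) :
    InTriv A x := by
  intro M _ _ j g hg
  have h1 := H (CoactBr.sp R M) (CoactBr.pt j) (CoactBr.pt (g⁻¹).ofConv) (by
    rw [CoactBr.lift_action_act, pt_inv, inv_inv, ← CoactBr.pt_comp, pt_act, hg])
  rw [← pt_one] at h1
  exact inv_eq_one.mp (WithConv.ofConv_injective (CoactBr.pt_injective h1))

end Dictionary

section Criterion

variable (R A B) in
/-- the equations of the fixed points -/
def fixIdeal : Ideal (B ⊗[R] A) :=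
  Ideal.span (Set.range fun b : B => GLin.coactAlgHom R A B b - b ⊗ₜ[R] (1 : A))

variable (R B) in
/-- `1 ⊗ a - ε a` -/
def dev (a : A) : B ⊗[R] A := (1 : B) ⊗ₜ[R] a - algebraMap R B (Coalgebra.counit a) ⊗ₜ[R] (1 : A)

variable (R A) in
/-- the stabiliser is the unit over the open set of `f` -/
def Kill (f : B) : Prop := ∀ a : A, (f ⊗ₜ[R] (1 : A)) * dev R B a ∈ fixIdeal R A B

variable {L : Type u} [CommRing L] [Algebra R L]

theorem inTriv_of_kill {x : B →ₐ[R] L} {f : B} (hf : IsUnit (x f)) (hk : Kill R A f) :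
    InTriv A x := by
  intro M _ _ j g hg
  let ψ : B ⊗[R] A →ₐ[R] M := Algebra.TensorProduct.lift (j.comp x) g.ofConv fun _ _ => .all _ _
  have hJ : fixIdeal R A B ≤ RingHom.ker ψ := by
    refine Ideal.span_le.mpr ?_
    rintro _ ⟨b, rfl⟩
    have h1 := DFunLike.congr_fun hg b
    simp only [SetLike.mem_coe, RingHom.mem_ker, map_sub]
    change act (j.comp x) g b - ψ (b ⊗ₜ[R] (1 : A)) = 0
    rw [h1]
    simp [ψ]
  apply WithConv.ofConv_injective
  refine AlgHom.ext fun a => ?_
  have h2 := RingHom.mem_ker.mp (hJ (hk a))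
  simp only [dev, map_mul, map_sub, ψ, Algebra.TensorProduct.lift_tmul, map_one, one_mul, mul_one,
    AlgHom.commutes] at h2
  have h3 : j (x f) * (g.ofConv a - algebraMap R M (Coalgebra.counit a)) = 0 := by
    simpa using h2
  rw [(hf.map j).mul_right_eq_zero, sub_eq_zero] at h3
  exact h3.trans (AlgHom.convOne_apply a).symm

variable (R A B) in
/-- `id ⊗ ε` -/
def counitB : B ⊗[R] A →ₐ[R] B :=
  Algebra.TensorProduct.lift (AlgHom.id R B) (1 : WithConv (A →ₐ[R] B)).ofConv fun _ _ => .all _ _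

variable [Module.Finite R A]

theorem eq_zero_of_inTriv {K : Type u} [CommRing K] [Algebra R K] {x : B →ₐ[R] K} (h : InTriv A x)
    {M : Type u} [CommRing M] (lK : K →+* M) (kN : B ⊗[R] A →+* M)
    (hl : ∀ b : B, kN (b ⊗ₜ[R] (1 : A)) = lK (x b))
    (hJ : ∀ b : B, kN (GLin.coactAlgHom R A B b) = kN (b ⊗ₜ[R] (1 : A))) (a : A) :
    kN (dev R B a) = 0 := by
  letI : Algebra R M := (lK.comp (algebraMap R K)).toAlgebra
  let j : K →ₐ[R] M := { lK with commutes' := fun _ => rfl }
  let kA : B ⊗[R] A →ₐ[R] M :=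
    { kN with
      commutes' := fun r => by
        show kN (algebraMap R B r ⊗ₜ[R] (1 : A)) = lK (algebraMap R K r)
        rw [hl, x.commutes] }
  let γ : WithConv (A →ₐ[R] M) := toConv (kA.comp Algebra.TensorProduct.includeRight)
  have hΦ : (Algebra.TensorProduct.lift (j.comp x) γ.ofConv fun _ _ => .all _ _) = kA :=
    Algebra.TensorProduct.ext' fun b a => by
      rw [Algebra.TensorProduct.lift_tmul]
      show lK (x b) * kN ((1 : B) ⊗ₜ[R] a) = kN (b ⊗ₜ[R] a)
      rw [← hl, ← map_mul, Algebra.TensorProduct.tmul_mul_tmul, _root_.mul_one, _root_.one_mul]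
  have hfix : InertCoact.act (j.comp x) γ = j.comp x := by
    refine AlgHom.ext fun b => ?_
    rw [InertCoact.act, AlgHom.comp_apply, hΦ]
    exact (hJ b).trans (hl b)
  have hg := h M j γ hfix
  have h1 : kA ((1 : B) ⊗ₜ[R] a) = algebraMap R M (Coalgebra.counit a) :=
    (congrArg (fun c : WithConv (A →ₐ[R] M) => c.ofConv a) hg).trans (AlgHom.convOne_apply a)
  change kA (dev R B a) = 0
  rw [dev, map_sub, h1, sub_eq_zero]
  exact (kA.commutes _).symm

theorem exists_kill_of_inTriv {K : Type u} [Field K] [Algebra R K] {x : B →ₐ[R] K}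
    (h : InTriv A x) : ∃ f : B, x f ≠ 0 ∧ Kill R A f := by
  algebraize [x.toRingHom]
  let J := fixIdeal R A B
  let π : B ⊗[R] A →ₐ[B] (B ⊗[R] A) ⧸ J := Ideal.Quotient.mkₐ B J
  let lK : K →+* K ⊗[B] ((B ⊗[R] A) ⧸ J) := Algebra.TensorProduct.includeLeftRingHom
  let kN : B ⊗[R] A →+* K ⊗[B] ((B ⊗[R] A) ⧸ J) :=
    ((Algebra.TensorProduct.includeRight (R := B) (A := K)).comp π).toRingHom
  have hb : ∀ b : B, π (GLin.coactAlgHom R A B b) = π (b ⊗ₜ[R] (1 : A)) := fun b =>
    (Ideal.Quotient.mk_eq_mk_iff_sub_mem (I := J) _ _).mpr (Ideal.subset_span ⟨b, rfl⟩)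
  have hdev : ∀ a : A, (1 : K) ⊗ₜ[B] π (dev R B a) = 0 := fun a =>
    eq_zero_of_inTriv (M := K ⊗[B] ((B ⊗[R] A) ⧸ J)) h lK kN (fun b => by
      show (1 : K) ⊗ₜ[B] π (b ⊗ₜ[R] (1 : A)) = x b ⊗ₜ[B] (1 : (B ⊗[R] A) ⧸ J)
      rw [show x b = b • (1 : K) from (Algebra.algebraMap_eq_smul_one b), TensorProduct.smul_tmul,
        show b ⊗ₜ[R] (1 : A) = b • (1 : B ⊗[R] A) by
          rw [Algebra.TensorProduct.one_def, TensorProduct.smul_tmul', smul_eq_mul, _root_.mul_one],
        map_smul, map_one]) (fun b => congrArg (fun z => (1 : K) ⊗ₜ[B] z) (hb b)) a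
  let S : Submodule B (B ⊗[R] A) := J.restrictScalars B ⊔ Submodule.span B {1}
  let q : ((B ⊗[R] A) ⧸ J) →ₗ[B] (B ⊗[R] A) ⧸ S :=
    (J.restrictScalars B).liftQ S.mkQ (by rw [Submodule.ker_mkQ]; exact le_sup_left) ∘ₗ
      (Submodule.Quotient.restrictScalarsEquiv B J).symm.toLinearMap
  have hq : ∀ z : B ⊗[R] A, q (π z) = S.mkQ z := fun z => rfl
  have hzero : ∀ z : K ⊗[B] ((B ⊗[R] A) ⧸ S), z = 0 := by
    intro z
    induction z using TensorProduct.induction_on with
    | zero => rfl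
    | add p q hp hq => rw [hp, hq, add_zero]
    | tmul c m =>
      obtain ⟨m, rfl⟩ := S.mkQ_surjective m
      induction m using TensorProduct.induction_on with
      | zero => simp
      | add p q hp hq => rw [map_add, TensorProduct.tmul_add, hp, hq, add_zero]
      | tmul b a =>
        have e : S.mkQ (b ⊗ₜ[R] a) = b • S.mkQ (dev R B a) := by
          rw [← map_smul, ← sub_eq_zero, ← map_sub, Submodule.mkQ_apply, Submodule.Quotient.mk_eq_zero,
            dev, smul_sub, TensorProduct.smul_tmul', TensorProduct.smul_tmul', smul_eq_mul,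
            smul_eq_mul, _root_.mul_one, sub_sub_cancel]
          refine Submodule.mem_sup_right (Submodule.mem_span_singleton.mpr
            ⟨b * algebraMap R B (Coalgebra.counit a), ?_⟩)
          rw [Algebra.TensorProduct.one_def, TensorProduct.smul_tmul', smul_eq_mul, _root_.mul_one]
        have e2 := congrArg (LinearMap.lTensor K q) (hdev a)
        rw [LinearMap.lTensor_tmul, hq, map_zero] at e2
        rw [e, TensorProduct.tmul_smul, show c = c • (1 : K) by rw [smul_eq_mul, _root_.mul_one],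
          ← TensorProduct.smul_tmul', e2, smul_zero, smul_zero]
  haveI : Subsingleton (K ⊗[B] ((B ⊗[R] A) ⧸ S)) := subsingleton_of_forall_eq 0 hzero
  let p : PrimeSpectrum B := ⟨RingHom.ker x, RingHom.ker_isPrime _⟩
  haveI : p.asIdeal.IsPrime := RingHom.ker_isPrime _
  have hns : p ∉ Module.support B ((B ⊗[R] A) ⧸ S) := by
    rw [Module.mem_support_iff_nontrivial_residueField_tensorProduct]
    intro hn
    let θ : p.asIdeal.ResidueField →ₐ[B] K :=
      Ideal.ResidueField.liftₐ p.asIdeal (Algebra.ofId B K) le_rfl (fun f hf => by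
        exact (isUnit_iff_ne_zero.mpr hf))
    algebraize [θ.toRingHom]
    haveI : IsScalarTower B p.asIdeal.ResidueField K :=
      IsScalarTower.of_algebraMap_eq fun b => (θ.commutes b).symm
    let e := TensorProduct.AlgebraTensorModule.cancelBaseChange B p.asIdeal.ResidueField
      p.asIdeal.ResidueField K ((B ⊗[R] A) ⧸ S)
    haveI := e.toEquiv.subsingleton
    exact not_subsingleton (K ⊗[p.asIdeal.ResidueField]
      (p.asIdeal.ResidueField ⊗[B] ((B ⊗[R] A) ⧸ S))) inferInstance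
  rw [Module.mem_support_iff_of_finite, SetLike.not_le_iff_exists] at hns
  obtain ⟨f, hf, hfp⟩ := hns
  refine ⟨f, hfp, fun a => ?_⟩
  have h1 := Module.mem_annihilator.mp hf (S.mkQ (dev R B a))
  rw [← map_smul, Submodule.mkQ_apply, Submodule.Quotient.mk_eq_zero, Submodule.mem_sup] at h1
  obtain ⟨u, hu, v, hv, huv⟩ := h1
  obtain ⟨c, rfl⟩ := Submodule.mem_span_singleton.mp hv
  let e : B ⊗[R] A →ₐ[R] B := counitB R A B
  have he : J ≤ RingHom.ker e := by
    refine Ideal.span_le.mpr ?_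
    rintro _ ⟨b, rfl⟩
    simp only [SetLike.mem_coe, RingHom.mem_ker, map_sub]
    rw [show e (GLin.coactAlgHom R A B b) = act (AlgHom.id R B) (1 : WithConv (A →ₐ[R] B)) b from rfl,
      act_one]
    simp [e, counitB]
  have h3 := congrArg e huv
  rw [map_add, RingHom.mem_ker.mp (he hu), zero_add, Algebra.TensorProduct.one_def,
    TensorProduct.smul_tmul', dev, smul_sub, map_sub, TensorProduct.smul_tmul',
    TensorProduct.smul_tmul'] at h3
  simp [e, counitB, AlgHom.convOne_apply] at h3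
  rw [h3, zero_smul, add_zero] at huv
  have h4 : u = (f ⊗ₜ[R] (1 : A)) * dev R B a := by
    rw [huv, Algebra.smul_def]
    rfl
  exact h4 ▸ hu

end Criterion

end Groth.Agent.InertCoact
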