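import Groth.Agent.InertCoact.Basic
import Groth.Agent.GrpdLib.RingGrpdPoints
import Mathlib.Algebra.Category.Ring.Constructions

/-!
# The groupoid of a coaction and transfer of trivial inertia along fibres
-/

set_option autoImplicit false

universe u

open CategoryTheory WithConv
open scoped TensorProduct

noncomputable section

namespace Groth.Agent.InertCoact

variable (R A B : Type u) [CommRing R] [CommRing A] [HopfAlgebra R A]
  [CommRing B] [Algebra R B] [HopfRep.Comod R A B] [GLin.IsCoactAlg R A B]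

theorem isPushout_inclL {B' : Type u} [CommRing B'] [Algebra R B'] (f : B →ₐ[R] B') :
    IsPushout (CommRingCat.ofHom f.toRingHom)
      (CommRingCat.ofHom (Algebra.TensorProduct.includeLeftRingHom (R := R) (A := B) (B := A)))
      (CommRingCat.ofHom (Algebra.TensorProduct.includeLeftRingHom (R := R) (A := B') (B := A)))
      (CommRingCat.ofHom (Algebra.TensorProduct.map f (AlgHom.id R A)).toRingHom) := by
  refine (IsPushout.of_top (v₁₁ := CommRingCat.ofHom (algebraMap R B))
    (v₁₂ := CommRingCat.ofHom (Algebra.TensorProduct.includeRight (R := R) (A := B) (B := A)).toRingHom)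
    (h₁₁ := CommRingCat.ofHom (algebraMap R A)) ?_ ?_ (CommRingCat.isPushout_tensorProduct R B A).flip).flip
  · have e1 : CommRingCat.ofHom (algebraMap R B) ≫ CommRingCat.ofHom f.toRingHom =
        CommRingCat.ofHom (algebraMap R B') := by
      ext r; exact f.commutes r
    have e2 : CommRingCat.ofHom (Algebra.TensorProduct.includeRight (R := R) (A := B) (B := A)).toRingHom ≫
        CommRingCat.ofHom (Algebra.TensorProduct.map f (AlgHom.id R A)).toRingHom =
        CommRingCat.ofHom (Algebra.TensorProduct.includeRight (R := R) (A := B') (B := A)).toRingHom := by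
      ext a; simp
    rw [e1, e2]
    exact (CommRingCat.isPushout_tensorProduct R B' A).flip
  · ext b; simp

/-- `(b, g, h) ↦ b` -/
def x0 : B →ₐ[R] (B ⊗[R] A) ⊗[R] A :=
  (Algebra.TensorProduct.includeLeft : B ⊗[R] A →ₐ[R] (B ⊗[R] A) ⊗[R] A).comp
    Algebra.TensorProduct.includeLeft

/-- first group element -/
def p1 : WithConv (A →ₐ[R] (B ⊗[R] A) ⊗[R] A) :=
  toConv ((Algebra.TensorProduct.includeLeft : B ⊗[R] A →ₐ[R] (B ⊗[R] A) ⊗[R] A).comp
    Algebra.TensorProduct.includeRight)

/-- second group element -/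
def p2 : WithConv (A →ₐ[R] (B ⊗[R] A) ⊗[R] A) :=
  toConv Algebra.TensorProduct.includeRight

/-- `(b, g, h) ↦ (b, g, c)` for a group element `c` -/
def shear (c : WithConv (A →ₐ[R] (B ⊗[R] A) ⊗[R] A)) :
    (B ⊗[R] A) ⊗[R] A →ₐ[R] (B ⊗[R] A) ⊗[R] A :=
  Algebra.TensorProduct.lift Algebra.TensorProduct.includeLeft c.ofConv fun _ _ => .all _ _

theorem shear_p1 (c : WithConv (A →ₐ[R] (B ⊗[R] A) ⊗[R] A)) :
    toConv ((shear R A B c).comp (p1 R A B).ofConv) = p1 R A B := by
  refine WithConv.ofConv_injective (AlgHom.ext fun a => ?_)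
  simp [shear, p1]

theorem shear_p2 (c : WithConv (A →ₐ[R] (B ⊗[R] A) ⊗[R] A)) :
    toConv ((shear R A B c).comp (p2 R A B).ofConv) = c := by
  refine WithConv.ofConv_injective (AlgHom.ext fun a => ?_)
  simp [shear, p2]

theorem shear_comp_shear {c d : WithConv (A →ₐ[R] (B ⊗[R] A) ⊗[R] A)}
    (h : toConv ((shear R A B c).comp d.ofConv) = p2 R A B) :
    (shear R A B c).comp (shear R A B d) = AlgHom.id R _ := by
  refine Algebra.TensorProduct.ext ?_ ?_
  · refine AlgHom.ext fun z => ?_
    simp [shear]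
  · refine AlgHom.ext fun a => ?_
    have := DFunLike.congr_fun (congrArg WithConv.ofConv h) a
    show shear R A B c (shear R A B d ((1 : B ⊗[R] A) ⊗ₜ[R] a)) = (1 : B ⊗[R] A) ⊗ₜ[R] a
    rw [show shear R A B d ((1 : B ⊗[R] A) ⊗ₜ[R] a) = d.ofConv a by
      simp [shear, Algebra.TensorProduct.lift_tmul, ← Algebra.TensorProduct.one_def]]
    exact this

/-- the shear isomorphism `(b, g, h) ↦ (b, g, g h)` -/
def shearEquiv : (B ⊗[R] A) ⊗[R] A ≃ₐ[R] (B ⊗[R] A) ⊗[R] A :=
  AlgEquiv.ofAlgHom (shear R A B (p1 R A B * p2 R A B)) (shear R A B ((p1 R A B)⁻¹ * p2 R A B))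
    (shear_comp_shear R A B (by
      rw [AlgHom.comp_convMul_distrib, shear_p2]
      have : toConv ((shear R A B (p1 R A B * p2 R A B)).comp ((p1 R A B)⁻¹).ofConv) = (p1 R A B)⁻¹ :=
        (congrArg (fun z : WithConv (A →ₐ[R] (B ⊗[R] A) ⊗[R] A) => z⁻¹) (shear_p1 R A B _))
      rw [this, inv_mul_cancel_left]))
    (shear_comp_shear R A B (by
      rw [AlgHom.comp_convMul_distrib, shear_p2, shear_p1, mul_inv_cancel_left]))

variable [Module.Finite R A] [Module.Projective R A]

theorem pres_inclL : Nonempty (GrpdLib.Pres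
    (Algebra.TensorProduct.includeLeftRingHom (R := R) (A := B) (B := A))) :=
  by
  have hA : (Algebra.TensorProduct.includeLeftRingHom (R := R) (A := B) (B := A)).toAlgebra =
      (Algebra.TensorProduct.leftAlgebra : Algebra B (B ⊗[R] A)) :=
    Algebra.algebra_ext _ _ fun _ => rfl
  refine GrpdLib.Pres.nonempty ?_ ?_
  · rw [hA]; infer_instance
  · rw [hA]; infer_instance

/-- the groupoid of the coaction -/
def grpd : GrpdLib.RingGrpd.{u} where
  A := CommRingCat.of B
  B := CommRingCat.of (B ⊗[R] A)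
  B₂ := CommRingCat.of ((B ⊗[R] A) ⊗[R] A)
  σ := CommRingCat.ofHom Algebra.TensorProduct.includeLeftRingHom
  τ := CommRingCat.ofHom (GLin.coactAlgHom R A B).toRingHom
  ε := CommRingCat.ofHom (counitB R A B).toRingHom
  π₁ := CommRingCat.ofHom (Algebra.TensorProduct.map (GLin.coactAlgHom R A B) (AlgHom.id R A)).toRingHom
  π₂ := CommRingCat.ofHom Algebra.TensorProduct.includeLeftRingHom
  γ := CommRingCat.ofHom (Algebra.TensorProduct.map (Algebra.TensorProduct.includeLeft :
      B →ₐ[R] B ⊗[R] A) (AlgHom.id R A)).toRingHom ≫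
    CommRingCat.ofHom (shearEquiv R A B).toAlgHom.toRingHom
  hfst := isPushout_inclL R A B (GLin.coactAlgHom R A B)
  hcomp := (isPushout_inclL R A B (Algebra.TensorProduct.includeLeft : B →ₐ[R] B ⊗[R] A)).of_iso
    (Iso.refl _) (Iso.refl _) (Iso.refl _) (shearEquiv R A B).toRingEquiv.toCommRingCatIso
    (by ext; simp) (by ext; simp)
    (CommRingCat.hom_ext (RingHom.ext fun z => by
      show shear R A B _ (z ⊗ₜ[R] (1 : A)) = z ⊗ₜ[R] (1 : A)
      simp [shear]))
    (CommRingCat.hom_ext (RingHom.ext fun z => rfl))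
  σ_ε := by
    ext b
    simp [counitB]
  τ_ε := by
    ext b
    show act (AlgHom.id R B) (1 : WithConv (A →ₐ[R] B)) b = b
    rw [act_one]
    rfl
  τ_γ := by
    ext b
    let i : B →ₐ[R] B ⊗[R] A := Algebra.TensorProduct.includeLeft
    have e1 : (shearEquiv R A B).toAlgHom.comp (Algebra.TensorProduct.map i (AlgHom.id R A)) =
        Algebra.TensorProduct.lift (x0 R A B) (p1 R A B * p2 R A B).ofConv fun _ _ => .all _ _ :=
      Algebra.TensorProduct.ext' fun b a => by
        show shear R A B _ ((Algebra.TensorProduct.map i (AlgHom.id R A)) (b ⊗ₜ[R] a)) = _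
        simp [shear, x0, i]
    have e2 : Algebra.TensorProduct.map (GLin.coactAlgHom R A B) (AlgHom.id R A) =
        Algebra.TensorProduct.lift (act (x0 R A B) (p1 R A B)) (p2 R A B).ofConv fun _ _ => .all _ _ := by
      refine Algebra.TensorProduct.ext' fun b a => ?_
      have e3 : Algebra.TensorProduct.lift (x0 R A B) (p1 R A B).ofConv (fun _ _ => .all _ _) =
          (Algebra.TensorProduct.includeLeft : B ⊗[R] A →ₐ[R] (B ⊗[R] A) ⊗[R] A) :=
        Algebra.TensorProduct.ext' fun b a => by simp [x0, p1]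
      simp [act, e3, p2]
    show ((shearEquiv R A B).toAlgHom.comp (Algebra.TensorProduct.map i (AlgHom.id R A))).comp
        (GLin.coactAlgHom R A B) b =
      (Algebra.TensorProduct.map (GLin.coactAlgHom R A B) (AlgHom.id R A)).comp (GLin.coactAlgHom R A B) b
    rw [e1, e2]
    exact (DFunLike.congr_fun (act_act (x0 R A B) (p1 R A B) (p2 R A B)) b).symm
  pres := pres_inclL R A B

theorem mem_invariants_grpd (b : B) :
    b ∈ (grpd R A B).invariants ↔ b ∈ GLin.invariants R A B := by
  rw [GLin.mem_invariants_iff]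
  exact eq_comm

theorem isIntegral_invariants : Algebra.IsIntegral (GLin.invariants R A B) B := by
  refine ⟨fun b => ?_⟩
  obtain ⟨p, hp, hpb⟩ := (grpd R A B).isIntegral.isIntegral b
  let ι' : (grpd R A B).invariants →+* GLin.invariants R A B :=
    { toFun := fun c => ⟨c.1, (mem_invariants_grpd R A B _).1 c.2⟩
      map_one' := rfl
      map_mul' := fun _ _ => rfl
      map_zero' := rfl
      map_add' := fun _ _ => rfl }
  refine ⟨p.map ι', hp.map _, ?_⟩
  rw [Polynomial.eval₂_map]
  exact hpb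

variable {R A B}

theorem exists_act_eq {Ω : Type u} [Field Ω] [IsAlgClosed Ω] [Algebra R Ω] (x y : B →ₐ[R] Ω)
    (h : ∀ c ∈ GLin.invariants R A B, x c = y c) :
    ∃ g : WithConv (A →ₐ[R] Ω), act x g = y := by
  obtain ⟨ψ, hτ, hσ⟩ := (grpd R A B).exists_point_of_eq y.toRingHom x.toRingHom
    (RingHom.ext fun c => (h _ ((mem_invariants_grpd R A B _).1 c.2)).symm)
  let ψ' : B ⊗[R] A →ₐ[R] Ω :=
    { (ψ : B ⊗[R] A →+* Ω) with
      commutes' := fun r => (DFunLike.congr_fun hσ (algebraMap R B r)).trans (x.commutes r) }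
  refine ⟨toConv (ψ'.comp Algebra.TensorProduct.includeRight), AlgHom.ext fun b => ?_⟩
  have e : (Algebra.TensorProduct.lift x (ψ'.comp Algebra.TensorProduct.includeRight)
      fun _ _ => .all _ _) = ψ' := Algebra.TensorProduct.ext' fun b a => by
    rw [Algebra.TensorProduct.lift_tmul]
    have hb : ψ' (b ⊗ₜ[R] (1 : A)) = x b := DFunLike.congr_fun hσ b
    rw [← hb, AlgHom.comp_apply, Algebra.TensorProduct.includeRight_apply, ← map_mul,
      Algebra.TensorProduct.tmul_mul_tmul, mul_one, one_mul]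
  show (Algebra.TensorProduct.lift x (ψ'.comp Algebra.TensorProduct.includeRight)
    fun _ _ => .all _ _) (GLin.coactAlgHom R A B b) = y b
  rw [e]
  exact DFunLike.congr_fun hτ b

/-- The set of primes of trivial inertia is a union of fibres over the invariants. -/
theorem exists_kill_of_same_fibre {K : Type u} [Field K] [Algebra R K] {x : B →ₐ[R] K}
    (hx : InTriv A x) (P : Ideal B) [P.IsPrime]
    (hP : ∀ c ∈ GLin.invariants R A B, c ∈ P ↔ x c = 0) : ∃ f : B, f ∉ P ∧ Kill R A f := by
  haveI := isIntegral_invariants R A B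
  let C := GLin.invariants R A B
  let Ω := AlgebraicClosure K
  let xΩ : B →ₐ[R] Ω := (IsScalarTower.toAlgHom R K Ω).comp x
  let φ : C →+* Ω := xΩ.toRingHom.comp C.val.toRingHom
  have hk : ∀ c : C, c ∈ P.comap (algebraMap C B) ↔ φ c = 0 := by
    intro c
    show (c : B) ∈ P ↔ algebraMap K Ω (x c) = 0
    rw [hP _ c.2]
    exact (map_eq_zero (algebraMap K Ω)).symm
  haveI : P.LiesOver (P.comap (algebraMap C B)) := ⟨rfl⟩
  let f : C ⧸ P.comap (algebraMap C B) →+* Ω :=
    Ideal.Quotient.lift _ φ fun c hc => (hk c).1 hc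
  have hf : Function.Injective f := by
    rw [injective_iff_map_eq_zero]
    intro z hz
    obtain ⟨c, rfl⟩ := Ideal.Quotient.mk_surjective z
    exact Ideal.Quotient.eq_zero_iff_mem.mpr ((hk c).2 hz)
  obtain ⟨ψ, hψ⟩ := GrpdLib.exists_ringHom_quotient _ P f hf
  have hc : ∀ c : C, ψ (Ideal.Quotient.mk P (c : B)) = φ c := fun c =>
    DFunLike.congr_fun hψ (Ideal.Quotient.mk _ c)
  let y : B →ₐ[R] Ω :=
    { ψ.comp (Ideal.Quotient.mk P) with
      commutes' := fun r => (hc (algebraMap R C r)).trans (xΩ.commutes r) }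
  obtain ⟨g, hg⟩ := exists_act_eq (A := A) xΩ y fun c hc' => (hc ⟨c, hc'⟩).symm
  obtain ⟨b, hb, hkill⟩ := exists_kill_of_inTriv (hg ▸ (hx.comp _).act g : InTriv A y)
  exact ⟨b, fun hm => hb (by
    show ψ (Ideal.Quotient.mk P b) = 0
    rw [Ideal.Quotient.eq_zero_iff_mem.mpr hm, map_zero]), hkill⟩

theorem inTriv_of_same_fibre {K L : Type u} [Field K] [Algebra R K] [Field L] [Algebra R L]
    {x : B →ₐ[R] K} (hx : InTriv A x) (y : B →ₐ[R] L)
    (h : ∀ c ∈ GLin.invariants R A B, y c = 0 ↔ x c = 0) : InTriv A y := by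
  haveI : (RingHom.ker y).IsPrime := RingHom.ker_isPrime _
  obtain ⟨f, hf, hk⟩ := exists_kill_of_same_fibre hx (RingHom.ker y) h
  exact inTriv_of_kill (isUnit_iff_ne_zero.mpr hf) hk

theorem kill_add {f g : B} (hf : Kill R A f) (hg : Kill R A g) : Kill R A (f + g) := fun a => by
  rw [TensorProduct.add_tmul, add_mul]; exact add_mem (hf a) (hg a)

theorem kill_mul {g : B} (c : B) (hg : Kill R A g) : Kill R A (c * g) := fun a => by
  rw [show (c * g) ⊗ₜ[R] (1 : A) = (c ⊗ₜ[R] (1 : A)) * (g ⊗ₜ[R] (1 : A)) by simp, mul_assoc]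
  exact Ideal.mul_mem_left _ _ (hg a)

theorem exists_invariant_kill (P : Ideal (GLin.invariants R A B)) [P.IsPrime]
    (h : ∀ Q : Ideal B, Q.IsPrime → Q.comap (algebraMap (GLin.invariants R A B) B) = P →
      ∃ f : B, f ∉ Q ∧ Kill R A f) :
    ∃ c : GLin.invariants R A B, c ∉ P ∧ Kill R A (c : B) := by
  haveI := isIntegral_invariants R A B
  let I : Ideal B :=
    { carrier := {f | Kill R A f}
      add_mem' := kill_add
      zero_mem' := fun a => by rw [TensorProduct.zero_tmul, zero_mul]; exact zero_mem _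
      smul_mem' := fun c f hf => kill_mul c hf }
  by_contra hne
  push Not at hne
  obtain ⟨Q, hIQ, hQ, hQP⟩ := Ideal.exists_ideal_over_prime_of_isIntegral (S := B) P I
    (fun c hc => by_contra fun hcP => hne c hcP hc)
  obtain ⟨f, hfQ, hf⟩ := h Q hQ hQP
  exact hfQ (hIQ hf)

end Groth.Agent.InertCoact
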